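import Mathlib.CategoryTheory.Triangulated.Pretriangulated
import Mathlib.CategoryTheory.Triangulated.TriangleShift
import Mathlib.Algebra.Homology.HomologicalComplex

/-!
# Postnikov systems in triangulated categories
-/

set_option backward.isDefEq.respectTransparency false
set_option backward.isDefEq.respectTransparency.types false
set_option linter.style.haveILetI false
set_option linter.unusedSectionVars false
set_option autoImplicit false

universe v u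

open CategoryTheory Limits Pretriangulated

namespace Groth.Agent.Postnikov

variable {D : Type u} [Category.{v} D] [Preadditive D] [HasZeroObject D] [HasShift D ℤ]
  [∀ n : ℤ, (shiftFunctor D n).Additive] [Pretriangulated D]

/-- There are no nonzero maps from `A` to `B`. -/
def NoHom (A B : D) : Prop := ∀ f : A ⟶ B, f = 0

theorem NoHom.of_iso {A A' B B' : D} (h : NoHom A B) (e : A ≅ A') (e' : B ≅ B') : NoHom A' B' := fun f => by
  rw [← cancel_epi e.hom, ← cancel_mono e'.inv, comp_zero, zero_comp]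
  exact h _

theorem NoHom.shift {A B : D} (h : NoHom A B) (r : ℤ) : NoHom (A⟦r⟧) (B⟦r⟧) := fun f => by
  obtain ⟨g, rfl⟩ := (shiftFunctor D r).map_surjective f
  rw [h g, Functor.map_zero]

theorem noHom_shift_iff {A B : D} {p q p' q' : ℤ} (h : p - q = p' - q') :
    NoHom (A⟦p⟧) (B⟦q⟧) → NoHom (A⟦p'⟧) (B⟦q'⟧) := fun hz =>
  (hz.shift (p' - p)).of_iso ((shiftFunctorAdd' D p (p' - p) p' (by lia)).app A).symm
    ((shiftFunctorAdd' D q (p' - p) q' (by lia)).app B).symm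

theorem noHom_left {A B : D} {p p' q' : ℤ} (h : p = p' - q') (hz : NoHom (A⟦p⟧) B) : NoHom (A⟦p'⟧) (B⟦q'⟧) :=
  noHom_shift_iff (q := 0) (by lia) (hz.of_iso (Iso.refl _) ((shiftFunctorZero D ℤ).app B).symm)

theorem noHom_right {A B : D} {q p' q' : ℤ} (h : -q = p' - q') (hz : NoHom A (B⟦q⟧)) : NoHom (A⟦p'⟧) (B⟦q'⟧) :=
  noHom_shift_iff (p := 0) (by lia) (hz.of_iso ((shiftFunctorZero D ℤ).app A).symm (Iso.refl _))

theorem noHom_of_shift {A B : D} {p q : ℤ} (h : p = q) (hz : NoHom (A⟦p⟧) (B⟦q⟧)) : NoHom A B :=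
  (noHom_shift_iff (p' := 0) (q' := 0) (by lia) hz).of_iso ((shiftFunctorZero D ℤ).app A) ((shiftFunctorZero D ℤ).app B)

variable {Y' X Y : D} {a : Y' ⟶ X} {b : X ⟶ Y} {c : Y ⟶ Y'⟦(1 : ℤ)⟧}

theorem eq_zero_of_comp_mor₁ (hT : Triangle.mk a b c ∈ distinguishedTriangles) {W : D} (φ : W ⟶ Y')
    (hφ : φ ≫ a = 0) (h : NoHom W (Y⟦(-1 : ℤ)⟧)) : φ = 0 := by
  obtain ⟨g, hg⟩ := Triangle.coyoneda_exact₂ _ (inv_rot_of_distTriang _ hT) φ hφ
  have hg0 : g = 0 := h g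
  rw [hg, hg0]
  exact zero_comp

theorem exists_of_mor₃_comp (hT : Triangle.mk a b c ∈ distinguishedTriangles) {W : D} (φ : Y' ⟶ W)
    (hφ : c ≫ φ⟦(1 : ℤ)⟧' = 0) : ∃ ψ : X ⟶ W, φ = a ≫ ψ := by
  obtain ⟨g, hg⟩ := Triangle.yoneda_exact₂ _ (rot_of_distTriang _ (rot_of_distTriang _ hT)) (φ⟦(1 : ℤ)⟧') hφ
  obtain ⟨ψ, hψ⟩ := (shiftFunctor D (1 : ℤ)).map_surjective (-g)
  refine ⟨ψ, (shiftFunctor D (1 : ℤ)).map_injective ?_⟩
  rw [Functor.map_comp, hψ, Preadditive.comp_neg, hg]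
  exact Preadditive.neg_comp _ _

theorem noHom_step (hT : Triangle.mk a b c ∈ distinguishedTriangles) {W : D} (hX : NoHom W X)
    (hY : NoHom (W⟦(1 : ℤ)⟧) Y) : NoHom W Y' := fun φ =>
  eq_zero_of_comp_mor₁ hT φ (hX _) (noHom_of_shift (p := 1) (q := 1) rfl
    (hY.of_iso (Iso.refl _) ((shiftEquiv D (1 : ℤ)).counitIso.app Y).symm))

variable (X : ℕ → D) (n : ℕ) (Y : ℕ → D) (a : ∀ k, Y k ⟶ X k) (b : ∀ k, X (k + 1) ⟶ Y k)
  (c : ∀ k, Y k ⟶ (Y (k + 1))⟦(1 : ℤ)⟧) (h0 : IsIso (a 0))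
  (hP : ∀ k, k < n → Triangle.mk (a (k + 1)) (b k) (c k) ∈ distinguishedTriangles)

include h0 hP in
theorem noHom_into (m : ℕ) (hm : m ≤ n) (W : D) (h : ∀ l, l ≤ m → NoHom W ((X l)⟦((l : ℤ) - m)⟧)) :
    NoHom W (Y m) := by
  induction m generalizing W with
  | zero =>
    exact (h 0 le_rfl).of_iso (Iso.refl W)
      ((shiftFunctorZero' D (((0 : ℕ) : ℤ) - ((0 : ℕ) : ℤ)) (by simp)).app (X 0) ≪≫ (asIso (a 0)).symm)
  | succ m ih =>
    refine noHom_step (hP m hm) ((h (m + 1) le_rfl).of_iso (Iso.refl _)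
      ((shiftFunctorZero' D _ (by simp)).app (X (m + 1)))) (ih (by lia) _ fun l hl => ?_)
    exact noHom_right (by push_cast; lia) (h l (by lia))

include h0 hP in
theorem noHom_out (m : ℕ) (hm : m ≤ n) (W : D) (h : ∀ l, l ≤ m → NoHom ((X l)⟦((l : ℤ) - m)⟧) W) :
    NoHom (Y m) W := by
  induction m generalizing W with
  | zero =>
    exact (h 0 le_rfl).of_iso
      ((shiftFunctorZero' D (((0 : ℕ) : ℤ) - ((0 : ℕ) : ℤ)) (by simp)).app (X 0) ≪≫ (asIso (a 0)).symm) (Iso.refl W)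
  | succ m ih =>
    intro φ
    have hc : c m ≫ φ⟦(1 : ℤ)⟧' = 0 := ih (by lia) _ (fun l hl => noHom_left (by push_cast; lia) (h l (by lia))) _
    obtain ⟨ψ, rfl⟩ := exists_of_mor₃_comp (hP m hm) φ hc
    rw [((h (m + 1) le_rfl).of_iso ((shiftFunctorZero' D _ (by simp)).app (X (m + 1))) (Iso.refl _)) ψ, comp_zero]

section Existence

variable (d : ∀ k, X (k + 1) ⟶ X k) (hd : ∀ k, d (k + 1) ≫ d k = 0)

/-- A stage in the construction of a Postnikov system. -/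
structure Stage (k : ℕ) where
  /-- the object -/
  obj : D
  /-- the map to the complex -/
  map : obj ⟶ X k
  lift : k < n → ∃ b : X (k + 1) ⟶ obj, b ≫ map = d k
  vanish : ∀ i, k + 2 < i → i ≤ n → NoHom ((X i)⟦(i : ℤ) - k - 2⟧) obj
  zero : k + 2 ≤ n → ∀ ψ : X (k + 2) ⟶ obj, ψ ≫ map = 0 → ψ = 0

variable (hX : ∀ i j : ℕ, j + 2 < i → i ≤ n → NoHom ((X i)⟦(i : ℤ) - j - 2⟧) (X j))

open Classical in
/-- The connecting map of a stage. -/
noncomputable def Stage.lmap {k : ℕ} (s : Stage X n d k) : X (k + 1) ⟶ s.obj :=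
  if h : k < n then (s.lift h).choose else 0

/-- The next stage. -/
noncomputable def nextObj {k : ℕ} (s : Stage X n d k) : D :=
  (distinguished_cocone_triangle₁ s.lmap).choose

/-- Its map to the complex. -/
noncomputable def nextMap {k : ℕ} (s : Stage X n d k) : nextObj X n d s ⟶ X (k + 1) :=
  (distinguished_cocone_triangle₁ s.lmap).choose_spec.choose

/-- Its connecting map. -/
noncomputable def nextC {k : ℕ} (s : Stage X n d k) : s.obj ⟶ (nextObj X n d s)⟦(1 : ℤ)⟧ :=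
  (distinguished_cocone_triangle₁ s.lmap).choose_spec.choose_spec.choose

theorem next_dist {k : ℕ} (s : Stage X n d k) :
    Triangle.mk (nextMap X n d s) s.lmap (nextC X n d s) ∈ distinguishedTriangles :=
  (distinguished_cocone_triangle₁ s.lmap).choose_spec.choose_spec.choose_spec

theorem lmap_comp {k : ℕ} (s : Stage X n d k) (hk : k < n) : s.lmap ≫ s.map = d k := by
  rw [Stage.lmap, dif_pos hk]
  exact (s.lift hk).choose_spec

/-- All stages. -/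
noncomputable def stage (hd : ∀ k, d (k + 1) ≫ d k = 0)
    (hX : ∀ i j : ℕ, j + 2 < i → i ≤ n → NoHom ((X i)⟦(i : ℤ) - j - 2⟧) (X j)) : ∀ k, Stage X n d k
  | 0 => ⟨X 0, 𝟙 _, fun _ => ⟨d 0, Category.comp_id _⟩, fun i hi hin => hX i 0 hi hin,
      fun _ ψ hψ => by rwa [Category.comp_id] at hψ⟩
  | k + 1 =>
    let s := stage hd hX k
    { obj := nextObj X n d s
      map := nextMap X n d s
      lift := fun hk => by
        have hz : d (k + 1) ≫ s.lmap = 0 := s.zero (by lia) _ (by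
          rw [Category.assoc, lmap_comp X n d s (by lia), hd k])
        obtain ⟨g, hg⟩ := Triangle.coyoneda_exact₂ _ (next_dist X n d s) (d (k + 1)) hz
        exact ⟨g, hg.symm⟩
      vanish := fun i hi hin => noHom_step (next_dist X n d s) (hX i (k + 1) hi hin)
        ((s.vanish i (by lia) hin).of_iso ((shiftFunctorAdd' D ((i : ℤ) - ((k + 1 : ℕ) : ℤ) - 2) 1 _ (by push_cast; lia)).app (X i)) (Iso.refl _))
      zero := fun hk ψ hψ => eq_zero_of_comp_mor₁ (next_dist X n d s) ψ hψ (by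
        refine noHom_of_shift (p := 1) (q := 1) rfl ((s.vanish (k + 1 + 2) (by lia) (by lia)).of_iso ?_
          ((shiftEquiv D (1 : ℤ)).counitIso.app s.obj).symm)
        exact eqToIso (by congr 2; push_cast; lia)) }

include hd hX in
theorem exists_system : ∃ (Y : ℕ → D) (a : ∀ k, Y k ⟶ X k) (b : ∀ k, X (k + 1) ⟶ Y k)
    (c : ∀ k, Y k ⟶ (Y (k + 1))⟦(1 : ℤ)⟧), IsIso (a 0) ∧
      ∀ k, k < n → Triangle.mk (a (k + 1)) (b k) (c k) ∈ distinguishedTriangles ∧ b k ≫ a k = d k :=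
  ⟨fun k => (stage X n d hd hX k).obj, fun k => (stage X n d hd hX k).map,
    fun k => (stage X n d hd hX k).lmap, fun k => nextC X n d (stage X n d hd hX k),
    inferInstanceAs (IsIso (𝟙 (X 0))),
    fun k hk => ⟨next_dist X n d (stage X n d hd hX k), lmap_comp X n d _ hk⟩⟩

end Existence

section Morphisms

variable {X n Y a b c} (X' : ℕ → D) (qY : ℕ → D) (qa : ∀ k, qY k ⟶ X' k) (qb : ∀ k, X' (k + 1) ⟶ qY k)
  (qc : ∀ k, qY k ⟶ (qY (k + 1))⟦(1 : ℤ)⟧) (qh0 : IsIso (qa 0))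
  (qhP : ∀ k, k < n → Triangle.mk (qa (k + 1)) (qb k) (qc k) ∈ distinguishedTriangles)
  (d : ∀ k, X (k + 1) ⟶ X k) (qd : ∀ k, X' (k + 1) ⟶ X' k)
  (hd : ∀ k, k < n → b k ≫ a k = d k) (qhd : ∀ k, k < n → qb k ≫ qa k = qd k)
  (φ : ∀ k, X k ⟶ X' k) (hφ : ∀ k, φ (k + 1) ≫ qd k = d k ≫ φ k)

include h0 hP qh0 qhP hd qhd hφ in
theorem exists_morphism (hX : ∀ i j : ℕ, j + 1 < i → i ≤ n → NoHom ((X i)⟦(i : ℤ) - j - 1⟧) (X' j)) :
    ∃ y : ∀ k, Y k ⟶ qY k, (∀ k, k ≤ n → y k ≫ qa k = a k ≫ φ k) ∧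
      (∀ k, k < n → b k ≫ y k = φ (k + 1) ≫ qb k ∧ c k ≫ (y (k + 1))⟦(1 : ℤ)⟧' = y k ≫ qc k) := by
  classical
  let step : ∀ k, (Y k ⟶ qY k) → (Y (k + 1) ⟶ qY (k + 1)) := fun k y =>
    if h : ∃ y' : Y (k + 1) ⟶ qY (k + 1),
      y' ≫ qa (k + 1) = a (k + 1) ≫ φ (k + 1) ∧ c k ≫ y'⟦(1 : ℤ)⟧' = y ≫ qc k then h.choose else 0
  let y : ∀ k, Y k ⟶ qY k := fun k =>
    Nat.rec (motive := fun k => Y k ⟶ qY k) (a 0 ≫ φ 0 ≫ inv (qa 0)) step k
  have key : ∀ k, k ≤ n → y k ≫ qa k = a k ≫ φ k ∧ (k < n → b k ≫ y k = φ (k + 1) ≫ qb k) ∧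
      (k < n → y (k + 1) ≫ qa (k + 1) = a (k + 1) ≫ φ (k + 1) ∧ c k ≫ (y (k + 1))⟦(1 : ℤ)⟧' = y k ≫ qc k) := by
    intro k
    induction k with
    | zero =>
      intro _
      have hb : 0 < n → b 0 ≫ y 0 = φ 1 ≫ qb 0 := fun h => by
        show b 0 ≫ a 0 ≫ φ 0 ≫ inv (qa 0) = _
        rw [← cancel_mono (qa 0), Category.assoc (φ 1), qhd 0 h]
        simp only [Category.assoc, IsIso.inv_hom_id, Category.comp_id]
        rw [reassoc_of% hd 0 h, ← hφ 0]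
      refine ⟨by simp [y], hb, fun h => ?_⟩
      obtain ⟨y', h1, h2⟩ := complete_distinguished_triangle_morphism₁ _ _ (hP 0 h) (qhP 0 h) (φ 1) (y 0) (hb h)
      have hex : ∃ y' : Y 1 ⟶ qY 1, y' ≫ qa 1 = a 1 ≫ φ 1 ∧ c 0 ≫ y'⟦(1 : ℤ)⟧' = y 0 ≫ qc 0 := ⟨y', h1.symm, h2⟩
      show step 0 (y 0) ≫ _ = _ ∧ c 0 ≫ (step 0 (y 0))⟦(1 : ℤ)⟧' = _
      simp only [step, dif_pos hex]
      exact hex.choose_spec
    | succ k ih =>
      intro hk
      obtain ⟨hsq, -⟩ := (ih (by lia)).2.2 (by lia)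
      have hb : k + 1 < n → b (k + 1) ≫ y (k + 1) = φ (k + 1 + 1) ≫ qb (k + 1) := fun h => by
        rw [← sub_eq_zero]
        refine eq_zero_of_comp_mor₁ (qhP k (by lia)) _ ?_ ?_
        · rw [Preadditive.sub_comp, Category.assoc, Category.assoc, hsq, qhd (k + 1) h,
            reassoc_of% hd (k + 1) h, hφ (k + 1), sub_self]
        · refine noHom_of_shift (p := 1) (q := 1) rfl (NoHom.of_iso ?_ (Iso.refl _)
            ((shiftEquiv D (1 : ℤ)).counitIso.app (qY k)).symm)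
          exact noHom_into X' n qY qa qb qc qh0 qhP k (by lia) _ fun l hl =>
            noHom_left (by push_cast; lia) (hX (k + 1 + 1) l (by lia) (by lia))
      refine ⟨hsq, hb, fun h => ?_⟩
      obtain ⟨y', h1, h2⟩ := complete_distinguished_triangle_morphism₁ _ _ (hP (k + 1) h) (qhP (k + 1) h)
        (φ (k + 1 + 1)) (y (k + 1)) (hb h)
      have hex : ∃ y' : Y (k + 1 + 1) ⟶ qY (k + 1 + 1), y' ≫ qa (k + 1 + 1) = a (k + 1 + 1) ≫ φ (k + 1 + 1) ∧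
          c (k + 1) ≫ y'⟦(1 : ℤ)⟧' = y (k + 1) ≫ qc (k + 1) := ⟨y', h1.symm, h2⟩
      show step (k + 1) (y (k + 1)) ≫ _ = _ ∧ c (k + 1) ≫ (step (k + 1) (y (k + 1)))⟦(1 : ℤ)⟧' = _
      simp only [step, dif_pos hex]
      exact hex.choose_spec
  exact ⟨y, fun k hk => (key k hk).1, fun k hk => ⟨(key k (by lia)).2.1 hk, ((key k (by lia)).2.2 hk).2⟩⟩

variable (y z : ∀ k, Y k ⟶ qY k) (hy : ∀ k, k ≤ n → y k ≫ qa k = a k ≫ φ k)
  (hz : ∀ k, k ≤ n → z k ≫ qa k = a k ≫ φ k)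
  (hyc : ∀ k, k < n → c k ≫ (y (k + 1))⟦(1 : ℤ)⟧' = y k ≫ qc k)
  (hzc : ∀ k, k < n → c k ≫ (z (k + 1))⟦(1 : ℤ)⟧' = z k ≫ qc k)

include qh0 hy hz in
theorem eq_zero' : y 0 = z 0 := by
  rw [← cancel_mono (qa 0), hy 0 (Nat.zero_le _), hz 0 (Nat.zero_le _)]

include hP qh0 hy hz hyc hzc in
theorem comp_eq (k : ℕ) (hk : k ≤ n) (W : D) (g : qY k ⟶ W)
    (h : ∀ i, 1 ≤ i → i ≤ k → NoHom ((X i)⟦(i : ℤ)⟧) (W⟦(k : ℤ)⟧)) : y k ≫ g = z k ≫ g := by
  induction k generalizing W with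
  | zero => rw [eq_zero' X' qY qa qh0 φ y z hy hz]
  | succ k ih =>
    have h' := ih (by lia) _ (qc k ≫ g⟦(1 : ℤ)⟧') fun i h1 h2 => (h i h1 (by lia)).of_iso (Iso.refl _)
      ((shiftFunctorAdd' D (1 : ℤ) (k : ℤ) _ (by push_cast; lia)).app W)
    have hc : c k ≫ (y (k + 1) ≫ g - z (k + 1) ≫ g)⟦(1 : ℤ)⟧' = 0 := by
      rw [Functor.map_sub, Functor.map_comp, Functor.map_comp, Preadditive.comp_sub,
        reassoc_of% hyc k hk, reassoc_of% hzc k hk, h', sub_self]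
    obtain ⟨ψ, hψ⟩ := exists_of_mor₃_comp (hP k hk) _ hc
    have hψ0 : NoHom (X (k + 1)) W := noHom_of_shift rfl (h (k + 1) (by lia) le_rfl)
    rw [← sub_eq_zero, hψ, hψ0 ψ, comp_zero]

include h0 hP qh0 qhP hy hz hyc hzc in
theorem eq_of_vanishing (hv : ∀ i j : ℕ, 0 < i → i ≤ j → j ≤ n →
      NoHom ((X (j - i))⟦1 - (i : ℤ)⟧) (X' j) ∧ NoHom (X j) ((X' (j - i))⟦-(i : ℤ)⟧))
    (k : ℕ) (hk : k ≤ n) : y k = z k := by
  induction k with
  | zero => exact eq_zero' X' qY qa qh0 φ y z hy hz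
  | succ k ih =>
    have hc : c k ≫ (y (k + 1) - z (k + 1))⟦(1 : ℤ)⟧' = 0 := by
      rw [Functor.map_sub, Preadditive.comp_sub, hyc k hk, hzc k hk, ih (by lia), sub_self]
    obtain ⟨ψ, hψ⟩ := exists_of_mor₃_comp (hP k hk) _ hc
    have h1 : a (k + 1) ≫ ψ ≫ qa (k + 1) = 0 := by
      rw [← Category.assoc, ← hψ, Preadditive.sub_comp, hy _ hk, hz _ hk, sub_self]
    obtain ⟨ω, hω⟩ := Triangle.yoneda_exact₂ _ (hP k hk) (ψ ≫ qa (k + 1)) h1
    have hω0 : ω = 0 := noHom_out X n Y a b c h0 hP k (by lia) _ (fun l hl => by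
      have h := (hv (k + 1 - l) (k + 1) (by lia) (by lia) hk).1
      rw [show k + 1 - (k + 1 - l) = l by lia,
        show (1 : ℤ) - ((k + 1 - l : ℕ) : ℤ) = (l : ℤ) - k by lia] at h
      exact h) ω
    have hψ0 : ψ = 0 := eq_zero_of_comp_mor₁ (qhP k hk) ψ (by rw [hω, hω0]; exact comp_zero) (by
      refine noHom_of_shift (p := 1) (q := 1) rfl (NoHom.of_iso ?_ (Iso.refl _)
        ((shiftEquiv D (1 : ℤ)).counitIso.app (qY k)).symm)
      exact noHom_into X' n qY qa qb qc qh0 qhP k (by lia) _ fun l hl => by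
        have h := (hv (k + 1 - l) (k + 1) (by lia) (by lia) hk).2
        rw [show k + 1 - (k + 1 - l) = l by lia] at h
        exact noHom_right (by lia) h)
    rw [← sub_eq_zero, hψ, hψ0, comp_zero]

end Morphisms

end Groth.Agent.Postnikov
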